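import Cfsg.Agent.MinParFF.Offender
import Cfsg.Agent.LocalP.Basic
import Cfsg.Agent.Fus.NormalCentralizer.Closed
import Cfsg.Agent.Eq.Def_LocalEven
import Cfsg.Prelude.Def_LocalEven

/-!
Minimal offenders in `p`-minimal groups.
-/

set_option autoImplicit false
set_option linter.unusedSectionVars false

open Cfsg

namespace CfsgLib.MinParFF

variable {G : Type*} [Group G] [Finite G] {p : ℕ} [Fact p.Prime]

theorem pCore_le_sylow {H : Type*} [Group H] [Finite H] (S : Sylow p H) :
    Cfsg.pCore p H ≤ (S : Subgroup H) := by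
  have hn : (Cfsg.pCore p H).Normal := by
    show (sSup {N : Subgroup H | N.Normal ∧ IsPGroup p N}).Normal
    exact Subgroup.sSup_normal _ fun N hN => hN.1
  exact IsPGroup.le_sylow_of_normal (CfsgLib.LocalP.isPGroup_pCore) S

/-- An element of a `p`-subgroup `T` all of whose conjugates lie in the unique maximal subgroup over `T`
lies in `O_p`. -/
theorem mem_pCore_of_conj {H : Type*} [Group H] [Finite H] (hmin : IsPMinimal p H) (T : Sylow p H)
    {M : Subgroup H} (hM : IsCoatom M) (hTM : (T : Subgroup H) ≤ M) {a : H}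
    (ha : a ∈ (T : Subgroup H)) (hc : ∀ g : H, g⁻¹ * a * g ∈ M) : a ∈ Cfsg.pCore p H := by
  classical
  set K := M.normalCore
  haveI : K.Normal := Subgroup.normalCore_normal M
  have haK : a ∈ K := fun g => by
    have := hc g⁻¹
    rwa [inv_inv] at this
  obtain ⟨S₀, hS₀⟩ := CfsgLib.NormalCent.sylow_inf_normal T K
  set D := (S₀ : Subgroup K).map K.subtype
  have hD : D = (T : Subgroup H) ⊓ K := hS₀
  have htop : Subgroup.normalizer (D : Set H) ⊔ K = ⊤ := Sylow.normalizer_sup_eq_top S₀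
  have hTN : (T : Subgroup H) ≤ Subgroup.normalizer (D : Set H) := by
    intro t ht
    refine Subgroup.mem_normalizer_fintype fun d hd => ?_
    rw [SetLike.mem_coe, hD] at hd ⊢
    exact ⟨(T : Subgroup H).mul_mem ((T : Subgroup H).mul_mem ht hd.1) ((T : Subgroup H).inv_mem ht),
      Subgroup.Normal.conj_mem inferInstance _ hd.2 t⟩
  have hNtop : Subgroup.normalizer (D : Set H) = ⊤ := by
    rcases eq_top_or_exists_le_coatom (Subgroup.normalizer (D : Set H)) with h | ⟨M', hM', hle⟩
    · exact h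
    exfalso
    obtain ⟨-, huniq⟩ := (hmin T).2.choose_spec
    have hMM' : M' = M :=
      (huniq M' ⟨hM', hTN.trans hle⟩).trans (huniq M ⟨hM, hTM⟩).symm
    subst hMM'
    exact hM'.1 (top_le_iff.1 (htop.ge.trans (sup_le hle (Subgroup.normalCore_le M'))))
  haveI hDn : D.Normal := Subgroup.normalizer_eq_top_iff.1 hNtop
  have hDp : IsPGroup p D := S₀.2.map _
  exact CfsgLib.LocalP.le_pCore hDn hDp (by rw [hD]; exact ⟨ha, haK⟩)

theorem natural_of_pMinimal (V P : Subgroup G) (hV : IsElementaryAbelian p V)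
    (hPV : P ≤ Subgroup.normalizer (V : Set G))
    (hfaith : P ⊓ Subgroup.centralizer (V : Set G) = ⊥) (hmin : IsPMinimal p ↥P) (T : Sylow p ↥P)
    (M : Subgroup ↥P) (hM : IsCoatom M) (hTM : (T : Subgroup ↥P) ≤ M) (A : Subgroup G)
    (hAT : A ≤ (T : Subgroup ↥P).map P.subtype) (hAel : IsElementaryAbelian p A)
    (hb : Nat.card ↥V ≤ Nat.card ↥A * Nat.card ↥(V ⊓ Subgroup.centralizer (A : Set G)))
    (hs : ∀ A₀ : Subgroup G, A₀ ≤ A → A₀ ≠ ⊥ → A₀ ≠ A →
      Nat.card ↥A₀ * Nat.card ↥(V ⊓ Subgroup.centralizer (A₀ : Set G)) <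
        Nat.card ↥A * Nat.card ↥(V ⊓ Subgroup.centralizer (A : Set G)))
    (hz : ⁅V ⊓ Subgroup.centralizer (((T : Subgroup ↥P).map P.subtype : Subgroup G) : Set G), P⁆ ≠ ⊥)
    (hgen : ∀ x : ↥P, x ∉ M → A ⊔ A.map (MulAut.conj (x : G)).toMonoidHom = P) :
    ∃ (F : Type) (_ : Field F) (_ : Fintype F), Fintype.card F = Nat.card ↥A ∧
      Nonempty (↥P ≃* Matrix.SpecialLinearGroup (Fin 2) F) ∧
      (V ⊓ Subgroup.centralizer (A : Set G)) = ⁅V, A⁆ ⊔ (V ⊓ Subgroup.centralizer (P : Set G)) ∧
      ActsAsSL2OnSection F ⊤ P V (V ⊓ Subgroup.centralizer (P : Set G)) := by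
  have hAM : A ≤ M.map P.subtype := hAT.trans (Subgroup.map_mono hTM)
  set R := (Cfsg.pCore p ↥P).map P.subtype
  have hRT : R ≤ (T : Subgroup ↥P).map P.subtype := Subgroup.map_mono (pCore_le_sylow T)
  have hn : (Cfsg.pCore p ↥P).Normal := by
    show (sSup {N : Subgroup ↥P | N.Normal ∧ IsPGroup p N}).Normal
    exact Subgroup.sSup_normal _ fun N hN => hN.1
  have h : Minimal p P V (M.map P.subtype) A R :=
    { V_el := hV
      P_norm := hPV
      faith := hfaith
      M_le := Subgroup.map_subtype_le M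
      M_lt := fun hle => hM.1 (eq_top_iff.2 fun x _ => by
        obtain ⟨y, hy, hyx⟩ := hle x.2
        rwa [← P.subtype_injective hyx])
      A_le := hAM
      A_el := hAel
      bound := hb
      strict := hs
      gen := fun x hx hxM => hgen ⟨x, hx⟩ fun hm => hxM ⟨_, hm, rfl⟩
      R_le := Subgroup.map_mono ((pCore_le_sylow T).trans hTM)
      R_norm := by
        rintro g hg _ ⟨r, hr, rfl⟩
        exact ⟨⟨g, hg⟩ * r * ⟨g, hg⟩⁻¹, hn.conj_mem r hr _, rfl⟩
      R_max := fun N hNP hNn hNp => by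
        have hn' : (N.subgroupOf P).Normal := ⟨fun r hr g => hNn g g.2 r hr⟩
        have h1 := CfsgLib.LocalP.le_pCore hn'
          (hNp.of_equiv (Subgroup.subgroupOfEquivOfLe hNP).symm)
        intro y hy
        exact ⟨⟨y, hNP hy⟩, h1 hy, rfl⟩
      core := fun a ha hc => by
        obtain ⟨t, ht, rfl⟩ := hAT ha
        refine ⟨t, mem_pCore_of_conj hmin T hM hTM ht fun g => ?_, rfl⟩
        obtain ⟨m, hm, hmg⟩ := hc g g.2
        have : m = g⁻¹ * t * g := P.subtype_injective (by simpa using hmg)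
        rwa [← this] }
  have hm : Moved P V A R := by
        by_contra hcon
        simp only [Moved] at hcon
        push Not at hcon
        apply hz
        rw [Subgroup.commutator_eq_bot_iff_le_centralizer]
        intro v hv
        rw [Subgroup.mem_centralizer_iff]
        intro x hx
        have hvT := Subgroup.mem_centralizer_iff.1 hv.2
        exact hcon v hv.1 (fun a ha => hvT a (hAT ha)) (fun r hr => hvT r (hRT hr)) x hx
  exact h.natural hm

end CfsgLib.MinParFF
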